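import Cfsg.Agent.H740.K4.Scheme

/-!
# Rational irreducible characters from a colouring, with their values (helper819)

* `eig_of` : the eigenvector conditions of `H816.IMEig` from rational certificates;
* `exists_val` : the irreducible character belonging to a rational spherical function, its degree and its values.
-/

set_option autoImplicit false

namespace Cfsg.Agent.H819.K4.ColVal

open Cfsg Cfsg.Agent.Characters.Core Module Cfsg.Agent.H816.IMEig Cfsg.Agent.H816.IMEig.Col
open scoped BigOperators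

universe u v

/-- The eigenvector conditions from rational certificates. -/
theorem eig_of {n : ℕ} {a o : Fin n} {t : Fin n → Fin n → ℕ} {θ : ℚ} {ω : Fin n → ℚ} (L : Fin n → Fin n → ℚ)
    (h1 : ω o = 1)
    (h2 : ∀ u, ∑ w, ((∑ w', t a w' : ℕ) : ℚ) * (t u w : ℚ) * ω w = θ * ((∑ w, t u w : ℕ) : ℚ) * ω u)
    (h3 : ∀ i j, ∑ l, L i l * (((∑ w', t a w' : ℕ) : ℚ) * (t l j : ℚ) - if l = j then θ * ((∑ w, t l w : ℕ) : ℚ) else 0) =
      (if i = j then 1 else 0) - if j = o then ω i else 0) :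
    Eig a o t (θ : ℂ) (fun u => (ω u : ℂ)) where
  one := by
    show ((ω o : ℚ) : ℂ) = 1
    rw [h1, Rat.cast_one]
  eig u := by
    have h := congrArg (fun q : ℚ => (q : ℂ)) (h2 u)
    push_cast at h ⊢
    exact h
  uniq φ hφ i := by
    have h4 : ∀ l, ∑ j, (((∑ w', t a w' : ℕ) : ℂ) * (t l j : ℂ) - if l = j then (θ : ℂ) * ((∑ w, t l w : ℕ) : ℂ) else 0) * φ j =
        0 := by
      intro l
      have h5 := hφ l
      have h6 : ∑ j, (((∑ w', t a w' : ℕ) : ℂ) * (t l j : ℂ) - if l = j then (θ : ℂ) * ((∑ w, t l w : ℕ) : ℂ) else 0) * φ j =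
          ∑ j, ((∑ w', t a w' : ℕ) : ℂ) * (t l j : ℂ) * φ j -
          ∑ j, (if l = j then (θ : ℂ) * ((∑ w, t l w : ℕ) : ℂ) else 0) * φ j := by
        rw [← Finset.sum_sub_distrib]
        exact Finset.sum_congr rfl fun j _ => by ring
      rw [h6, h5]
      have h7 : ∑ j, (if l = j then (θ : ℂ) * ((∑ w, t l w : ℕ) : ℂ) else 0) * φ j =
          (θ : ℂ) * ((∑ w, t l w : ℕ) : ℂ) * φ l := by
        rw [Finset.sum_eq_single l]
        · rw [if_pos rfl]
        · intro j _ hj
          rw [if_neg (Ne.symm hj), zero_mul]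
        · intro h
          exact absurd (Finset.mem_univ l) h
      rw [h7, sub_self]
    have h5 : ∑ j, ((if i = j then (1 : ℂ) else 0) - if j = o then (ω i : ℂ) else 0) * φ j = φ i - ω i * φ o := by
      have h6 : ∀ j, ((if i = j then (1 : ℂ) else 0) - if j = o then (ω i : ℂ) else 0) * φ j =
          (if i = j then φ j else 0) - (if j = o then (ω i : ℂ) * φ j else 0) := by
        intro j
        split_ifs <;> ring
      rw [Finset.sum_congr rfl fun j _ => h6 j, Finset.sum_sub_distrib, Finset.sum_ite_eq, Finset.sum_ite_eq',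
        if_pos (Finset.mem_univ _), if_pos (Finset.mem_univ _)]
    have h6 : ∑ j, ((if i = j then (1 : ℂ) else 0) - if j = o then (ω i : ℂ) else 0) * φ j = 0 := by
      have h7 : ∀ j, ((if i = j then (1 : ℂ) else 0) - if j = o then (ω i : ℂ) else 0) =
          ∑ l, (L i l : ℂ) * (((∑ w', t a w' : ℕ) : ℂ) * (t l j : ℂ) -
            if l = j then (θ : ℂ) * ((∑ w, t l w : ℕ) : ℂ) else 0) := by
        intro j
        have h8 : ((∑ l, L i l * (((∑ w', t a w' : ℕ) : ℚ) * (t l j : ℚ) -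
            if l = j then θ * ((∑ w, t l w : ℕ) : ℚ) else 0) : ℚ) : ℂ) =
            (((if i = j then 1 else 0) - if j = o then ω i else 0 : ℚ) : ℂ) := by rw [h3 i j]
        simp only [Rat.cast_sub, Rat.cast_sum, Rat.cast_mul, apply_ite (Rat.cast : ℚ → ℂ), Rat.cast_one,
          Rat.cast_zero, Rat.cast_natCast] at h8 ⊢
        exact h8.symm
      rw [Finset.sum_congr rfl fun j _ => by rw [h7 j]]
      simp only [Finset.sum_mul]
      rw [Finset.sum_comm]
      refine Finset.sum_eq_zero fun l _ => ?_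
      have h9 : ∑ j, (L i l : ℂ) * (((∑ w', t a w' : ℕ) : ℂ) * (t l j : ℂ) -
            if l = j then (θ : ℂ) * ((∑ w, t l w : ℕ) : ℂ) else 0) * φ j =
          (L i l : ℂ) * ∑ j, (((∑ w', t a w' : ℕ) : ℂ) * (t l j : ℂ) -
            if l = j then (θ : ℂ) * ((∑ w, t l w : ℕ) : ℂ) else 0) * φ j := by
        rw [Finset.mul_sum]
        exact Finset.sum_congr rfl fun j _ => by ring
      rw [h9, h4, mul_zero]
    rw [h5] at h6
    show φ i = φ o * (ω i : ℂ)
    linear_combination h6

variable {G : Type u} [Group G] {X : Type v} [MulAction G X] {ι : Type} [Fintype ι] [DecidableEq ι]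
variable {c : X → X → ι} {o : ι}

/-- **The constituent belonging to a rational spherical function, with its values.** -/
theorem exists_val [Finite G] [Fintype X] (h : Col G X ι c o) {x₀ z₀ : X} {t : ι → ι → ℕ} {θ : ℂ}
    {ω : ι → ℚ} (ht : ∀ u w, Nat.card {y // c x₀ y = u ∧ c z₀ y = w} = t u w)
    (hE : Eig (c x₀ z₀) o t θ (fun u => (ω u : ℂ)))
    {f : ℕ} (hf : (f : ℚ) * ∑ u, ((∑ w, t u w : ℕ) : ℚ) * ω u ^ 2 = (Nat.card X : ℚ)) :
    ∃ χ : G → ℂ, IsIrrCharacter G χ ∧ χ 1 = f ∧
      ∀ g, χ g = (((f : ℚ) / Nat.card X * ∑ x : X, ω (c x (g • x)) : ℚ) : ℂ) := by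
  classical
  have hX : (Nat.card X : ℂ) ≠ 0 := by
    have : Nonempty X := ⟨x₀⟩
    exact_mod_cast (Nat.card_pos (α := X)).ne'
  have hf' : (f : ℂ) * SS t (fun u => (ω u : ℂ)) = (Nat.card X : ℂ) := by
    have h1 := congrArg (fun q : ℚ => (q : ℂ)) hf
    unfold SS
    push_cast at h1 ⊢
    exact h1
  have hS : SS t (fun u => (ω u : ℂ)) ≠ 0 := by
    intro h0
    rw [h0, mul_zero] at hf'
    exact hX hf'.symm
  have hf0 : (f : ℂ) ≠ 0 := by
    intro h0
    rw [h0, zero_mul] at hf'
    exact hX hf'.symm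
  refine ⟨_, isIrrCharacter_of_rep _ (h.irr ht hE), ?_, ?_⟩
  · rw [Representation.char_one]
    have h1 := h.finrank_mul ht hE hS
    rw [← Nat.card_eq_fintype_card, ← hf'] at h1
    exact mul_right_cancel₀ hS h1
  · intro g
    rw [Cfsg.Agent.H740.K4.Scheme.character_eq h ht hE hS g, ← mul_inv_cancel_right₀ hS (SS t (fun u => (ω u : ℂ)))⁻¹]
    push_cast
    rw [← hf']
    field_simp

end Cfsg.Agent.H819.K4.ColVal
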