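import Cfsg.Agent.HN.AutHS
import Cfsg.Agent.H678.DG.PairRep
import Cfsg.Agent.H819.K4.HSData
import Cfsg.Agent.H819.K4.ColVal

/-!
# The rank 5 action of `HS` on the 1100 edges of the Higman-Sims graph (helper819)

`col` : the five orbitals; `exists_77`, `exists_175`, `exists_825` : rational irreducible characters of odd degree with
their values.
-/

set_option autoImplicit false
set_option maxRecDepth 100000

namespace Cfsg.Agent.H819.K4.HSCol

open Cfsg Equiv Cfsg.Agent.SporadicA.PermTab Cfsg.Agent.HN Cfsg.Agent.HN.HS100 Cfsg.Agent.H678.DG.Blk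
open Cfsg.Agent.H678.DG.PairRep Cfsg.Agent.H819.K4.HSData Cfsg.Agent.H816.IMEig

/-- first end points -/
def ea (k : ℕ) : ℕ := lk ta k

/-- second end points -/
def eb (k : ℕ) : ℕ := lk tb k

/-- the number of an edge -/
def ix (i j : ℕ) : ℕ := Nat.land (Nat.shiftRight ixt (Nat.mul 11 (Nat.add (Nat.mul 100 i) j))) 2047

/-- adjacent vertices -/
def R (i j : ℕ) : Bool := Nat.beq (bitM 100 adjA i j) 1

theorem dat : Data 100 1100 R ea eb ix := Data.mk' (by decide +kernel) (by decide +kernel)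

theorem hR : ∀ g ∈ Q, ∀ i j : Fin 100, R (g i) (g j) = R i j := by
  intro g hg i j
  have h1 := (AutBound.mem_Q_iff.1 hg).1 i j
  unfold R
  rw [h1]

theorem R_symm (i j : Fin 100) : R i j = R j i := by
  unfold R
  have h := SrgHS.ad_symm i j
  unfold SrgHS.ad at h
  rw [h]

/-- the edges -/
def E : Type := Fin 1100

instance : Fintype E := inferInstanceAs (Fintype (Fin 1100))
instance : DecidableEq E := inferInstanceAs (DecidableEq (Fin 1100))

instance : MulAction Q E where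
  smul g k := act dat hR g k
  one_smul := act_one dat hR
  mul_smul g h k := act_mul dat hR g h k

/-- the number of an edge as an element of the type `E` -/
def mk (k : ℕ) (h : k < 1100) : E := ⟨k, h⟩

theorem smul_val (g : Q) (k : E) : (g • k).val =
    ix (((g : Perm (Fin 100)) ⟨ea k.val, dat.lta k.val k.2⟩ : Fin 100) : ℕ)
      (((g : Perm (Fin 100)) ⟨eb k.val, dat.ltb k.val k.2⟩ : Fin 100) : ℕ) := rfl

theorem smul_tab {P : ℕ} {g : Q} (hg : ∀ i : Fin 100, ((g : Perm (Fin 100)) i : ℕ) = lk P i) (k : E) :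
    (g • k).val = ap ea eb ix P k.val := by
  rw [smul_val, hg, hg]
  rfl

/-- a number -/
def b2 (x : Bool) : ℕ := cond x 1 0

/-- three times the number of common end points plus the number of adjacent pairs -/
def cr (a b c d : ℕ) : ℕ :=
  Nat.add (Nat.mul 3 (Nat.add (Nat.add (b2 (Nat.beq a c)) (b2 (Nat.beq a d)))
    (Nat.add (b2 (Nat.beq b c)) (b2 (Nat.beq b d)))))
    (Nat.add (Nat.add (b2 (R a c)) (b2 (R a d))) (Nat.add (b2 (R b c)) (b2 (R b d))))

theorem cr_eq (a b c d : ℕ) : cr a b c d = 3 * ((b2 (Nat.beq a c) + b2 (Nat.beq a d)) + (b2 (Nat.beq b c) +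
    b2 (Nat.beq b d))) + ((b2 (R a c) + b2 (R a d)) + (b2 (R b c) + b2 (R b d))) := rfl

theorem cr_left (a b c d : ℕ) : cr b a c d = cr a b c d := by
  rw [cr_eq, cr_eq]
  ring

theorem cr_right (a b c d : ℕ) : cr a b d c = cr a b c d := by
  rw [cr_eq, cr_eq]
  ring

theorem beq_comm' (a b : ℕ) : Nat.beq a b = Nat.beq b a := by
  rw [Bool.eq_iff_iff]
  constructor
  · intro h
    rw [Nat.eq_of_beq_eq_true h]
    exact Nat.beq_refl _
  · intro h
    rw [Nat.eq_of_beq_eq_true h]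
    exact Nat.beq_refl _

theorem cr_symm (a b c d : Fin 100) : cr c d a b = cr a b c d := by
  rw [cr_eq, cr_eq, beq_comm' c a, beq_comm' c b, beq_comm' d a, beq_comm' d b, R_symm c a, R_symm c b,
    R_symm d a, R_symm d b]
  ring

theorem beq_map (g : Perm (Fin 100)) (a b : Fin 100) : Nat.beq (g a : ℕ) (g b : ℕ) = Nat.beq (a : ℕ) (b : ℕ) := by
  rw [Bool.eq_iff_iff]
  constructor
  · intro h
    rw [g.injective (Fin.ext (Nat.eq_of_beq_eq_true h))]
    exact Nat.beq_refl _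
  · intro h
    rw [show a = b from Fin.ext (Nat.eq_of_beq_eq_true h)]
    exact Nat.beq_refl _

theorem cr_map {g : Perm (Fin 100)} (hg : g ∈ Q) (a b c d : Fin 100) :
    cr (g a) (g b) (g c) (g d) = cr a b c d := by
  rw [cr_eq, cr_eq, beq_map, beq_map, beq_map, beq_map, hR g hg, hR g hg, hR g hg, hR g hg]

/-- the code of two edges -/
def cn (k l : ℕ) : ℕ := cr (ea k) (eb k) (ea l) (eb l)

theorem cn_smul (g : Q) (k l : E) : cn (g • k).val (g • l).val = cn k.val l.val := by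
  have h1 := dat.eq _ (Fin.is_lt ((g : Perm (Fin 100)) ⟨ea k.val, dat.lta k.val k.2⟩)) _
    (Fin.is_lt ((g : Perm (Fin 100)) ⟨eb k.val, dat.ltb k.val k.2⟩))
    (by rw [hR g g.2]; exact dat.rel k.val k.2)
  have h2 := dat.eq _ (Fin.is_lt ((g : Perm (Fin 100)) ⟨ea l.val, dat.lta l.val l.2⟩)) _
    (Fin.is_lt ((g : Perm (Fin 100)) ⟨eb l.val, dat.ltb l.val l.2⟩))
    (by rw [hR g g.2]; exact dat.rel l.val l.2)
  rw [← smul_val] at h1 h2
  have h3 := cr_map g.2 ⟨ea k.val, dat.lta k.val k.2⟩ ⟨eb k.val, dat.ltb k.val k.2⟩ ⟨ea l.val, dat.lta l.val l.2⟩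
    ⟨eb l.val, dat.ltb l.val l.2⟩
  unfold cn
  refine Eq.trans ?_ h3
  rcases h1 with ⟨e1, e2⟩ | ⟨e1, e2⟩ <;> rcases h2 with ⟨e3, e4⟩ | ⟨e3, e4⟩ <;> rw [e1, e2, e3, e4]
  · exact cr_right _ _ _ _
  · exact cr_left _ _ _ _
  · rw [cr_left, cr_right]

theorem cn_symm (k l : E) : cn l.val k.val = cn k.val l.val :=
  cr_symm ⟨ea k.val, dat.lta k.val k.2⟩ ⟨eb k.val, dat.ltb k.val k.2⟩ ⟨ea l.val, dat.lta l.val l.2⟩
    ⟨eb l.val, dat.ltb l.val l.2⟩

/-- the label of a code -/
def cd (s : ℕ) : ℕ := cond (Nat.beq s 8) 0 (cond (Nat.beq s 5) 1 (cond (Nat.beq s 2) 2 (cond (Nat.beq s 1) 3 4)))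

theorem cd_lt (s : ℕ) : cd s < 5 := by
  unfold cd
  cases Nat.beq s 8 <;> cases Nat.beq s 5 <;> cases Nat.beq s 2 <;> cases Nat.beq s 1 <;> decide

/-- the colour -/
def c (k l : E) : Fin 5 := ⟨cd (cn k.val l.val), cd_lt _⟩

theorem c_smul (g : Q) (k l : E) : c (g • k) (g • l) = c k l := by
  unfold c
  simp only [cn_smul]

theorem c_symm (k l : E) : c k l = c l k := by
  unfold c
  simp only [cn_symm k l]

/-- the roots -/
def bs : List ℕ := [1, 43, 148, 820]

/-- The label is the interval. -/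
theorem chk_lab : allB (fun y => Nat.beq (cd (cn 0 y)) (lab bs y)) 1100 = true := by decide +kernel

/-- The forest. -/
theorem chk_for : allB (fun y => bor (Nat.beq (rt bs (lab bs y)) y) (forceB (lk prt y) fun z => band (Nat.blt z y)
    (band (Nat.beq (lab bs z) (lab bs y)) (bor (Nat.beq (ap ea eb ix h1 z) y) (Nat.beq (ap ea eb ix h2 z) y))))) 1100 =
    true := by decide +kernel

/-- tables of the elements moving the first edge to the roots -/
def rr (j : ℕ) : ℕ := [r1, r2, r3, r4].getD j 0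

theorem chk_rt : allB (fun j => Nat.beq (ap ea eb ix (rr j) 0) (rt bs (Nat.succ j))) 4 = true := by decide +kernel

theorem chk_h1 : Nat.beq (ap ea eb ix h1 0) 0 = true := by decide +kernel
theorem chk_h2 : Nat.beq (ap ea eb ix h2 0) 0 = true := by decide +kernel

theorem word_of {P : ℕ} {L : List ℕ} (h : ∀ P ∈ L, InG Q P) (h' : chkWord 100 P L = true) : InG Q P := InG.word h h'

theorem inL {L : List ℕ} (h : ∀ P ∈ L, P = tX ∨ P = tY ∨ P = tW) : ∀ P ∈ L, InG Q P := by
  intro P hP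
  rcases h P hP with rfl | rfl | rfl
  exacts [inX, inY, inW]

theorem in_h1 : InG Q h1 := word_of (L := [tW, tW, tW, tW, tY]) (inL (by simp)) (by decide +kernel)
theorem in_h2 : InG Q h2 := word_of (L := [tW, tX, tY, tY, tY, tY, tX, tW, tW, tW, tW, tW]) (inL (by simp))
  (by decide +kernel)
theorem in_r1 : InG Q r1 := word_of (L := [tY]) (inL (by simp)) (by decide +kernel)
theorem in_r2 : InG Q r2 := word_of (L := [tY, tY, tY, tY, tY, tX]) (inL (by simp)) (by decide +kernel)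
theorem in_r3 : InG Q r3 := word_of (L := [tX]) (inL (by simp)) (by decide +kernel)
theorem in_r4 : InG Q r4 := word_of (L := [tY, tY, tY, tY, tY, tW, tW, tW, tW, tW]) (inL (by simp)) (by decide +kernel)
theorem in_g5 : InG Q g5 := word_of (L := [tY, tY, tY, tY, tY, tW, tW, tW, tW, tW]) (inL (by simp)) (by decide +kernel)

theorem exists_tab {P : ℕ} (h : InG Q P) : ∃ g : Q, ∀ k : E, (g • k).val = ap ea eb ix P k.val := by
  obtain ⟨g, hg, h1⟩ := h
  exact ⟨⟨g, hg⟩, fun k => smul_tab (g := ⟨g, hg⟩) h1 k⟩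

/-- the first edge -/
def e0 : E := mk 0 (by norm_num)

theorem lab_eq (y : E) : (c e0 y).val = lab bs y.val :=
  Nat.eq_of_beq_eq_true ((allB_iff _ _).1 chk_lab y.val y.2)

theorem lab_lt (y : E) : lab bs y.val < 5 := by
  rw [← lab_eq]
  exact (c e0 y).2

theorem rt_lt (j : Fin 5) : rt bs j < 1100 := by
  fin_cases j <;> decide

/-- The stabilizer of the first edge is transitive on each interval. -/
theorem exists_stab (y : E) : ∃ g : Q, g • e0 = e0 ∧ g • (mk (rt bs (c e0 y)) (rt_lt _)) = y := by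
  obtain ⟨a, ha⟩ := exists_tab in_h1
  obtain ⟨b, hb⟩ := exists_tab in_h2
  have ha0 : a • e0 = e0 := Fin.ext ((ha e0).trans (Nat.eq_of_beq_eq_true chk_h1))
  have hb0 : b • e0 = e0 := Fin.ext ((hb e0).trans (Nat.eq_of_beq_eq_true chk_h2))
  have key : ∀ n : ℕ, ∀ y : E, y.val = n → ∃ g : Q, g • e0 = e0 ∧ g • (mk (rt bs (c e0 y)) (rt_lt _)) = y := by
    intro n
    induction n using Nat.strong_induction_on with
    | _ n ih =>
      rintro y rfl
      have h := (allB_iff _ _).1 chk_for y.val y.2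
      rw [bor_iff, forceB_eq, band_eq_true, band_eq_true, bor_iff] at h
      rcases h with h | ⟨h1, h2, h3⟩
      · refine ⟨1, one_smul _ _, ?_⟩
        rw [one_smul]
        apply Fin.ext
        show rt bs (c e0 y).val = y.val
        rw [lab_eq]
        exact Nat.eq_of_beq_eq_true h
      · have h4 : lk prt y.val < y.val := Nat.blt_eq ▸ h1
        obtain ⟨g, hg0, hg⟩ := ih _ h4 (mk (lk prt y.val) (h4.trans y.2)) rfl
        have h5 : c e0 (mk (lk prt y.val) (h4.trans y.2)) = c e0 y := by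
          apply Fin.ext
          rw [lab_eq, lab_eq]
          exact Nat.eq_of_beq_eq_true h2
        simp only [h5] at hg
        rcases h3 with h3 | h3
        · refine ⟨a * g, by rw [mul_smul, hg0, ha0], ?_⟩
          rw [mul_smul, hg]
          exact Fin.ext ((ha _).trans (Nat.eq_of_beq_eq_true h3))
        · refine ⟨b * g, by rw [mul_smul, hg0, hb0], ?_⟩
          rw [mul_smul, hg]
          exact Fin.ext ((hb _).trans (Nat.eq_of_beq_eq_true h3))
  exact key y.val y rfl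

/-- Transitivity. -/
theorem exists_map (y : E) : ∃ g : Q, g • e0 = y := by
  obtain ⟨g, -, hg⟩ := exists_stab y
  have h1 : ∃ r : Q, r • e0 = mk (rt bs (c e0 y)) (rt_lt _) := by
    generalize c e0 y = j
    have key : ∀ i : ℕ, ∀ hi : i < 4, ∀ hj : rt bs (Nat.succ i) < 1100, InG Q (rr i) →
        ∃ r : Q, r • e0 = mk (rt bs (Nat.succ i)) hj := by
      intro i hi hj hin
      obtain ⟨r, hr⟩ := exists_tab hin
      exact ⟨r, Fin.ext ((hr e0).trans (Nat.eq_of_beq_eq_true ((allB_iff _ _).1 chk_rt i hi)))⟩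
    fin_cases j
    · exact ⟨1, one_smul _ _⟩
    · exact key 0 (by norm_num) (by decide) in_r1
    · exact key 1 (by norm_num) (by decide) in_r2
    · exact key 2 (by norm_num) (by decide) in_r3
    · exact key 3 (by norm_num) (by decide) in_r4
  obtain ⟨r, hr⟩ := h1
  exact ⟨g * r, by rw [mul_smul, hr, hg]⟩

theorem lab_zero {n : ℕ} (h : lab bs n = 0) : n = 0 := by
  have h1 : lab bs n = cond (Nat.blt n 1) 0 (Nat.succ (lab [43, 148, 820] n)) := rfl
  rw [h1] at h
  cases h2 : Nat.blt n 1 with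
  | true =>
    have h3 : n < 1 := Nat.blt_eq ▸ h2
    omega
  | false =>
    rw [h2] at h
    exact absurd h (Nat.succ_ne_zero _)

/-- **The five orbitals.** -/
theorem col : Col Q E (Fin 5) c 0 where
  inv := c_smul
  symm := c_symm
  diag := by
    intro x y
    obtain ⟨g, rfl⟩ := exists_map x
    have h1 : c (g • e0) y = c e0 (g⁻¹ • y) := by
      rw [← c_smul g e0 (g⁻¹ • y), smul_inv_smul]
    rw [h1]
    constructor
    · intro h
      have h2 : lab bs (g⁻¹ • y : E).val = 0 := by rw [← lab_eq, h]; rfl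
      have h3 : (g⁻¹ • y : E) = e0 := Fin.ext (lab_zero h2)
      rw [← h3, smul_inv_smul]
    · rintro rfl
      rw [inv_smul_smul]
      apply Fin.ext
      rw [lab_eq]
      rfl
  tr := by
    have key : ∀ y y' : E, c e0 y = c e0 y' → ∃ g : Q, g • e0 = e0 ∧ g • y = y' := by
      intro y y' h
      obtain ⟨g, hg0, hg⟩ := exists_stab y
      obtain ⟨g', hg0', hg'⟩ := exists_stab y'
      refine ⟨g' * g⁻¹, ?_, ?_⟩
      · rw [mul_smul, inv_smul_eq_iff.2 hg0.symm, hg0']
      · rw [mul_smul, inv_smul_eq_iff.2 hg.symm, ← hg']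
        simp only [h]
    intro x y x' y' h
    obtain ⟨a, rfl⟩ := exists_map x
    obtain ⟨b, rfl⟩ := exists_map x'
    have h1 : ∀ (g : Q) (z : E), c (g • e0) z = c e0 (g⁻¹ • z) := by
      intro g z
      rw [← c_smul g e0 (g⁻¹ • z), smul_inv_smul]
    rw [h1, h1] at h
    obtain ⟨g, hg0, hg⟩ := key _ _ h
    refine ⟨b * g * a⁻¹, ?_, ?_⟩
    · rw [mul_smul, inv_smul_smul, mul_smul, hg0]
    · rw [mul_smul, mul_smul, hg, smul_inv_smul]

/-- the second edge -/
def z0 : E := mk 43 (by norm_num)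

/-- the intersection numbers -/
def t (u w : Fin 5) : ℕ :=
  (![![0, 0, 1, 0, 0], ![0, 2, 8, 32, 0], ![1, 8, 0, 32, 64], ![0, 32, 32, 416, 192], ![0, 0, 64, 192, 24]] u) w

/-- the intersection numbers -/
def tn (u w : ℕ) : ℕ :=
  ([[0, 0, 1, 0, 0], [0, 2, 8, 32, 0], [1, 8, 0, 32, 64], [0, 32, 32, 416, 192], [0, 0, 64, 192, 24]].getD u []).getD w 0

theorem chk_t : allB (fun u => allB (fun w => cntB (fun y => band (Nat.beq (cd (cn 0 y)) u) (Nat.beq (cd (cn 43 y)) w))
    1100 (tn u w)) 5) 5 = true := by decide +kernel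

theorem card_E (p : ℕ → Bool) {m : ℕ} (h : cntB p 1100 m = true) : Nat.card {y : E // p y.val = true} = m := by
  have h1 := (cntB_iff p 1100 m).1 h
  rw [← card_fin] at h1
  show Nat.card {y : Fin 1100 // p y = true} = m
  rw [Nat.card_eq_fintype_card, Fintype.card_subtype]
  exact h1

theorem ht (u w : Fin 5) : Nat.card {y // c e0 y = u ∧ c z0 y = w} = t u w := by
  have h1 := (allB_iff _ _).1 ((allB_iff _ _).1 chk_t u u.2) w w.2
  have h2 := card_E _ h1
  have h3 : t u w = tn u w := by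
    fin_cases u <;> fin_cases w <;> rfl
  rw [h3, ← h2]
  refine Nat.card_congr (Equiv.subtypeEquivRight fun y => ?_)
  rw [band_eq_true]
  constructor
  · rintro ⟨e1, e2⟩
    rw [← e1, ← e2]
    exact ⟨Nat.beq_refl _, Nat.beq_refl _⟩
  · rintro ⟨e1, e2⟩
    exact ⟨Fin.ext (Nat.eq_of_beq_eq_true e1), Fin.ext (Nat.eq_of_beq_eq_true e2)⟩

theorem card_E' : Nat.card E = 1100 := by
  show Nat.card (Fin 1100) = 1100
  rw [Nat.card_eq_fintype_card, Fintype.card_fin]

theorem col_z0 : c e0 z0 = 2 := by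
  apply Fin.ext
  rw [lab_eq]
  rfl

/-! ### The element of order 5 -/

/-- the numbers of the edges with given colour of `x`, `g x` -/
def nn (u : ℕ) : ℕ := [5, 110, 25, 560, 400].getD u 0

theorem chk_n : allB (fun u => cntB (fun x => Nat.beq (cd (cn x (ap ea eb ix g5 x))) u) 1100 (nn u)) 5 = true := by
  decide +kernel

theorem sum_val {g : Q} (hg : ∀ k : E, (g • k).val = ap ea eb ix g5 k.val) (ω : Fin 5 → ℚ) :
    ∑ x : E, ω (c x (g • x)) = ∑ u : Fin 5, (nn u : ℚ) * ω u := by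
  classical
  have h1 : ∀ u : Fin 5, ((Finset.univ.filter fun x : E => c x (g • x) = u).card : ℚ) = nn u := by
    intro u
    have h2 := card_E _ ((allB_iff _ _).1 chk_n u u.2)
    rw [← h2, Nat.card_eq_fintype_card, Fintype.card_subtype]
    congr 2
    ext x
    simp only [Finset.mem_filter, Finset.mem_univ, true_and]
    rw [← hg]
    constructor
    · intro h
      rw [← h]
      exact Nat.beq_refl _
    · intro h
      exact Fin.ext (Nat.eq_of_beq_eq_true h)
  rw [← Finset.sum_fiberwise (s := Finset.univ) (g := fun x : E => c x (g • x)) (f := fun x => ω (c x (g • x)))]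
  refine Finset.sum_congr rfl fun u _ => ?_
  rw [← h1, Finset.sum_congr rfl (g := fun _ => ω u) (fun x hx => by rw [(Finset.mem_filter.1 hx).2]),
    Finset.sum_const, nsmul_eq_mul]

/-- the order -/
theorem chk_o : allB (fun i => Nat.beq (ev (List.replicate 5 g5) i) i) 100 = true := by decide +kernel

/-- The element of order 5. -/
theorem exists_five : ∃ g : Q, orderOf g = 5 ∧ ∀ k : E, (g • k).val = ap ea eb ix g5 k.val := by
  obtain ⟨g, hg, h1⟩ := in_g5
  refine ⟨⟨g, hg⟩, ?_, fun k => smul_tab (g := ⟨g, hg⟩) h1 k⟩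
  have : Fact (Nat.Prime 5) := ⟨by norm_num⟩
  have hpow : ∀ (n : ℕ) (i : Fin 100), (((g ^ n : Perm (Fin 100)) i : Fin 100) : ℕ) = ev (List.replicate n g5) i := by
    intro n
    induction n with
    | zero => intro i; rfl
    | succ n ih =>
      intro i
      rw [pow_succ, List.replicate_succ]
      show (((g ^ n : Perm (Fin 100)) (g i) : Fin 100) : ℕ) = _
      rw [ih, h1]
      rfl
  rw [← Subgroup.orderOf_coe]
  refine orderOf_eq_prime ?_ ?_
  · refine Equiv.ext fun i => Fin.ext ?_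
    rw [hpow]
    exact Nat.eq_of_beq_eq_true ((allB_iff _ _).1 chk_o i i.2)
  · intro h
    have h2 := h1 0
    have h3 : (g : Perm (Fin 100)) = 1 := h
    rw [h3] at h2
    revert h2
    decide +kernel

/-! ### The characters -/

theorem exists_char {f : ℕ} {θ : ℚ} {ω : Fin 5 → ℚ} (L : Fin 5 → Fin 5 → ℚ)
    (h1 : ω 0 = 1)
    (h2 : ∀ u, ∑ w, ((∑ w', t 2 w' : ℕ) : ℚ) * (t u w : ℚ) * ω w = θ * ((∑ w, t u w : ℕ) : ℚ) * ω u)
    (h3 : ∀ i j, ∑ l, L i l * (((∑ w', t 2 w' : ℕ) : ℚ) * (t l j : ℚ) - if l = j then θ * ((∑ w, t l w : ℕ) : ℚ) else 0) =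
      (if i = j then 1 else 0) - if j = 0 then ω i else 0)
    (h4 : (f : ℚ) * ∑ u, ((∑ w, t u w : ℕ) : ℚ) * ω u ^ 2 = 1100)
    {n : ℤ} (h5 : (f : ℚ) / 1100 * ∑ u : Fin 5, (nn u : ℚ) * ω u = n) :
    ∃ χ : Q → ℂ, IsIrrCharacter Q χ ∧ χ 1 = f ∧ (∀ g, ∃ q : ℚ, χ g = q) ∧
      ∀ g : Q, (∀ k : E, (g • k).val = ap ea eb ix g5 k.val) → χ g = n := by
  have hE := ColVal.eig_of (a := 2) (o := 0) (t := t) (θ := θ) (ω := ω) L h1 h2 h3
  rw [← col_z0] at hE
  obtain ⟨χ, hχ, hd, hv⟩ := ColVal.exists_val col ht hE (f := f) (by rw [card_E', h4]; norm_num)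
  refine ⟨χ, hχ, hd, fun g => ⟨_, hv g⟩, fun g hg => ?_⟩
  rw [hv, sum_val hg, card_E', show ((1100 : ℕ) : ℚ) = 1100 by norm_num, h5, Rat.cast_intCast]

/-- degree 77 -/
theorem exists_77 : ∃ χ : Q → ℂ, IsIrrCharacter Q χ ∧ χ 1 = (77 : ℕ) ∧ (∀ g, ∃ q : ℚ, χ g = q) ∧
    ∀ g : Q, (∀ k : E, (g • k).val = ap ea eb ix g5 k.val) → χ g = (2 : ℤ) :=
  exists_char (θ := 5) (ω := ![1, 11/21, 1/21, -1/84, -1/14])
    ![![0, 0, 0, 0, 0], ![5/168, -3/280, -1/280, 1/840, 0], ![1/105, 0, 0, 0, 0], ![-1/420, 1/3360, 0, 0, 0],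
      ![-1/560, 1/840, 1/1680, -1/6720, 0]]
    rfl (by decide +kernel) (by decide +kernel) (by decide +kernel) (by decide +kernel)

/-- degree 175 -/
theorem exists_175 : ∃ χ : Q → ℂ, IsIrrCharacter Q χ ∧ χ 1 = (175 : ℕ) ∧ (∀ g, ∃ q : ℚ, χ g = q) ∧
    ∀ g : Q, (∀ k : E, (g • k).val = ap ea eb ix g5 k.val) → χ g = (0 : ℤ) :=
  exists_char (θ := 17) (ω := ![1, -1/21, 17/105, -1/21, 2/35])
    ![![0, 0, 0, 0, 0], ![-151/20832, -11/6944, -5/6944, 5/20832, 0], ![1/105, 0, 0, 0, 0],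
      ![-289/83328, 5/83328, -3/27776, 1/27776, 0], ![359/69440, 1/5952, 61/208320, -1/20832, 0]]
    rfl (by decide +kernel) (by decide +kernel) (by decide +kernel) (by decide +kernel)

/-- degree 825 -/
theorem exists_825 : ∃ χ : Q → ℂ, IsIrrCharacter Q χ ∧ χ 1 = (825 : ℕ) ∧ (∀ g, ∃ q : ℚ, χ g = q) ∧
    ∀ g : Q, (∀ k : E, (g • k).val = ap ea eb ix g5 k.val) → χ g = (0 : ℤ) :=
  exists_char (θ := -3) (ω := ![1, -1/21, -1/35, 1/84, -1/70])
    ![![0, 0, 0, 0, 0], ![-103/4536, 53/13608, 5/4536, -5/13608, 0], ![1/105, 0, 0, 0, 0],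
      ![-1/9072, -5/54432, -1/9072, 1/27216, 0], ![37/15120, -1/2268, 1/15120, 1/36288, 0]]
    rfl (by decide +kernel) (by decide +kernel) (by decide +kernel) (by decide +kernel)

end Cfsg.Agent.H819.K4.HSCol
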